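import Groth.Agent.AssLib.Basic
import Groth.Agent.Depth.FlatLocal
import Groth.Agent.S5152
import Groth.Agent.QCohLib.Coherent

/-!
# Depths and supports at the generizations of a point, read on the stalk
-/

set_option autoImplicit false
set_option backward.isDefEq.respectTransparency false
set_option linter.style.haveILetI false
universe u

open CategoryTheory AlgebraicGeometry TopologicalSpace
open Groth.Agent.AssLib


namespace Groth.Agent.StalkPrimeLib

/-- Depth at a prime may be computed in any localisation at it. -/
theorem depth_of_isLocalization {R : Type u} [CommRing R] [IsNoetherianRing R] (q : Ideal R) [q.IsPrime]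
    (B : Type u) [CommRing B] [IsLocalRing B] [Algebra R B] [IsLocalization.AtPrime B q] {M N : Type u}
    [AddCommGroup M] [Module R M] [Module.Finite R M] [AddCommGroup N] [Module R N] [Module B N]
    [IsScalarTower R B N] (g : M →ₗ[R] N) [IsLocalizedModule q.primeCompl g] :
    LocCoh.depth B N = LocCoh.depth (Localization.AtPrime q) (LocalizedModule q.primeCompl M) := by
  let Rp := Localization.AtPrime q
  let e : Rp ≃ₐ[R] B := IsLocalization.algEquiv q.primeCompl Rp B
  letI : Algebra Rp B := e.toAlgHom.toRingHom.toAlgebra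
  haveI : IsScalarTower R Rp B := IsScalarTower.of_algebraMap_eq fun r => (e.commutes r).symm
  haveI : IsLocalHom (algebraMap Rp B) := ⟨fun a ha => by
    have h := ha.map e.symm.toRingEquiv.toRingHom
    have h2 : e.symm (e a) = a := e.symm_apply_apply a
    exact h2 ▸ h⟩
  haveI : IsLocalization (⊥ : Submonoid Rp) B := by
    haveI := IsLocalization.self (R := Rp) (M := ⊥) bot_le
    exact IsLocalization.isLocalization_of_algEquiv (⊥ : Submonoid Rp) (AlgEquiv.ofRingEquiv (f := e.toRingEquiv) fun _ => rfl)
  haveI : Module.Flat Rp B := IsLocalization.flat B (⊥ : Submonoid Rp)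
  haveI : Module.FaithfullyFlat Rp B := Module.FaithfullyFlat.of_flat_of_isLocalHom
  haveI : IsNoetherianRing B := IsLocalization.isNoetherianRing q.primeCompl B inferInstance
  haveI : IsNoetherianRing Rp := IsLocalization.isNoetherianRing q.primeCompl Rp inferInstance
  haveI : Module.Finite Rp (LocalizedModule q.primeCompl M) :=
    Module.Finite.of_isLocalizedModule q.primeCompl (LocalizedModule.mkLinearMap q.primeCompl M)
  letI : Module Rp N := Module.compHom N (algebraMap Rp B)
  haveI : IsScalarTower Rp B N := IsScalarTower.of_algebraMap_smul fun _ _ => rfl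
  haveI : IsScalarTower R Rp N := IsScalarTower.of_algebraMap_smul fun r x => by
    show algebraMap Rp B (algebraMap R Rp r) • x = r • x
    rw [← IsScalarTower.algebraMap_apply, algebraMap_smul]
  have hg : IsBaseChange B g := IsLocalizedModule.isBaseChange q.primeCompl B g
  have hf : IsBaseChange Rp (LocalizedModule.mkLinearMap q.primeCompl M) :=
    IsLocalizedModule.isBaseChange q.primeCompl Rp _
  have hh : IsBaseChange B (hf.lift g) := IsBaseChange.of_comp hf (by rw [IsBaseChange.lift_comp]; exact hg)
  have h1 := Depth.idealDepth_baseChange (I := IsLocalRing.maximalIdeal Rp) B N hh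
  rw [show (IsLocalRing.maximalIdeal Rp).map (algebraMap Rp B) = IsLocalRing.maximalIdeal B from
    IsLocalRing.map_maximalIdeal_of_surjective _ e.surjective] at h1
  exact h1

variable {X : Scheme.{u}} [IsLocallyNoetherian X] {W : X.Opens} (hW : IsAffineOpen W) {x : X} (hx : x ∈ W)

/-- Depth at a point in terms of sections on an affine open. -/
theorem depth_stalk_eq (F : X.Modules) (hF : Coh.IsCoh F) :
    LocCoh.depth (X.presheaf.stalk x) (F.presheaf.stalk x) =
      LocCoh.depth (Localization.AtPrime (pr hW hx)) (LocalizedModule (pr hW hx).primeCompl Γ(F, W)) := by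
  haveI := hF.1
  haveI : IsNoetherianRing Γ(X, W) := IsLocallyNoetherian.component_noetherian ⟨W, hW⟩
  haveI := QCohLib.finite_sections_of_isCoh hF hW
  letI : Algebra Γ(X, W) (X.presheaf.stalk x) := TopCat.Presheaf.algebra_section_stalk X.presheaf ⟨x, hx⟩
  haveI := hW.isLocalization_stalk ⟨x, hx⟩
  letI := Module.compHom (F.presheaf.stalk x) (X.presheaf.germ W x hx).hom
  haveI : IsScalarTower Γ(X, W) (X.presheaf.stalk x) (F.presheaf.stalk x) := .of_algebraMap_smul fun _ _ => rfl
  haveI := FlatLocus.isLocalizedModule_germL F hW x hx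
  exact depth_of_isLocalization (pr hW hx) (X.presheaf.stalk x) (FlatLocus.germL F W x hx)


/-- The generization of `x` attached to a prime of the local ring. -/
theorem exists_generization (x : X) (P : PrimeSpectrum (X.presheaf.stalk x)) :
    ∃ y : X, y ⤳ x ∧ ∀ F : X.Modules, Coh.IsCoh F →
      LocCoh.depth (Localization.AtPrime P.asIdeal) (LocalizedModule P.asIdeal.primeCompl (F.presheaf.stalk x)) =
        LocCoh.depth (X.presheaf.stalk y) (F.presheaf.stalk y) ∧
      (P ∈ Module.support (X.presheaf.stalk x) (F.presheaf.stalk x) → Nontrivial (F.presheaf.stalk y)) := by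
  obtain ⟨W, hW, hx, -⟩ := exists_isAffineOpen_mem_and_subset (X := X) (x := x) (U := ⊤) trivial
  haveI : IsNoetherianRing Γ(X, W) := IsLocallyNoetherian.component_noetherian ⟨W, hW⟩
  letI : Algebra Γ(X, W) (X.presheaf.stalk x) := TopCat.Presheaf.algebra_section_stalk X.presheaf ⟨x, hx⟩
  haveI := hW.isLocalization_stalk ⟨x, hx⟩
  haveI : IsNoetherianRing (X.presheaf.stalk x) :=
    IsLocalization.isNoetherianRing (pr hW hx).primeCompl _ inferInstance
  let q : PrimeSpectrum Γ(X, W) := ⟨P.asIdeal.under Γ(X, W), inferInstance⟩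
  have hq : q.asIdeal ≤ pr hW hx := by
    refine le_of_le_of_eq (Ideal.comap_mono (IsLocalRing.le_maximalIdeal P.isPrime.ne_top)) ?_
    exact IsLocalization.AtPrime.under_maximalIdeal (X.presheaf.stalk x) (pr hW hx)
  refine ⟨pt hW q, (specializes_iff hW hx (pt_mem hW q)).2 (by rw [pr_pt]; exact hq), fun F hF => ?_⟩
  haveI := hF.1
  haveI := QCohLib.finite_sections_of_isCoh hF hW
  letI := Module.compHom (F.presheaf.stalk x) (X.presheaf.germ W x hx).hom
  haveI : IsScalarTower Γ(X, W) (X.presheaf.stalk x) (F.presheaf.stalk x) := .of_algebraMap_smul fun _ _ => rfl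
  haveI := FlatLocus.isLocalizedModule_germL F hW x hx
  let A := Localization.AtPrime P.asIdeal
  let N := LocalizedModule P.asIdeal.primeCompl (F.presheaf.stalk x)
  haveI : IsLocalization.AtPrime A q.asIdeal :=
    IsLocalization.isLocalization_isLocalization_atPrime_isLocalization (pr hW hx).primeCompl A P.asIdeal
  let g : Γ(F, W) →ₗ[Γ(X, W)] N := ((LocalizedModule.mkLinearMap P.asIdeal.primeCompl (F.presheaf.stalk x)).restrictScalars
    Γ(X, W)) ∘ₗ FlatLocus.germL F W x hx
  haveI : IsLocalizedModule q.asIdeal.primeCompl g :=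
    (isLocalizedModule_iff_isBaseChange q.asIdeal.primeCompl A g).2 (IsBaseChange.comp
      (IsLocalizedModule.isBaseChange (pr hW hx).primeCompl (X.presheaf.stalk x) (FlatLocus.germL F W x hx))
      (IsLocalizedModule.isBaseChange P.asIdeal.primeCompl A
        (LocalizedModule.mkLinearMap P.asIdeal.primeCompl (F.presheaf.stalk x))))
  refine ⟨?_, fun hP => ?_⟩
  · rw [depth_stalk_eq hW (pt_mem hW q) F hF, depth_of_isLocalization q.asIdeal A g]
    have key : ∀ (p : Ideal Γ(X, W)) (_ : p.IsPrime), p = q.asIdeal →
        LocCoh.depth (Localization.AtPrime q.asIdeal) (LocalizedModule q.asIdeal.primeCompl Γ(F, W)) =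
          LocCoh.depth (Localization.AtPrime p) (LocalizedModule p.primeCompl Γ(F, W)) := by
      rintro _ _ rfl
      rfl
    exact key _ inferInstance (pr_pt hW q)
  · have hN : Nontrivial N := Module.mem_support_iff.1 hP
    rw [nontrivial_stalk_iff hW (pt_mem hW q), primeIdealOf_pt, Module.mem_support_iff]
    exact (IsLocalizedModule.iso q.asIdeal.primeCompl g).toEquiv.nontrivial_congr.2 hN

end Groth.Agent.StalkPrimeLib
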